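import Cfsg.Agent.Lib.Griess.Model
import Mathlib.GroupTheory.OrderOfElement
import Mathlib.GroupTheory.Complement
import Mathlib.GroupTheory.Subgroup.Centralizer
import Mathlib.Algebra.Group.End
import Mathlib.Tactic.Group
import Mathlib.Tactic.Ring

/-! Six generators of an extraspecial `2^{1+6}_+` inside a group, and the automorphisms they give. -/
set_option autoImplicit false

namespace Cfsg.Agent.Griess

universe u

/-- Three commuting hyperbolic pairs with common commutator `z`. -/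
structure Frame (Q : Type u) [Group Q] where
  a1 : Q
  a2 : Q
  a3 : Q
  b1 : Q
  b2 : Q
  b3 : Q
  z : Q
  hz : ∀ q : Q, z * q = q * z
  hz2 : z ^ 2 = 1
  hz1 : z ≠ 1
  hbin : ∀ x y : Q, x * y = y * x ∨ x * y = y * x * z
  s1 : a1 ^ 2 = 1
  s2 : a2 ^ 2 = 1
  s3 : a3 ^ 2 = 1
  t1 : b1 ^ 2 = 1
  t2 : b2 ^ 2 = 1
  t3 : b3 ^ 2 = 1
  a12 : a1 * a2 = a2 * a1
  a13 : a1 * a3 = a3 * a1
  a23 : a2 * a3 = a3 * a2
  b12 : b1 * b2 = b2 * b1
  b13 : b1 * b3 = b3 * b1
  b23 : b2 * b3 = b3 * b2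
  p11 : b1 * a1 = a1 * b1 * z
  p22 : b2 * a2 = a2 * b2 * z
  p33 : b3 * a3 = a3 * b3 * z
  p12 : b1 * a2 = a2 * b1
  p13 : b1 * a3 = a3 * b1
  p21 : b2 * a1 = a1 * b2
  p23 : b2 * a3 = a3 * b2
  p31 : b3 * a1 = a1 * b3
  p32 : b3 * a2 = a2 * b3

variable {Q : Type u} [Group Q] (F : Frame Q)

theorem pow_swap {a b z : Q} (hz : ∀ q : Q, z * q = q * z) (h : b * a = a * b * z) (m n : ℕ) :
    b ^ m * a ^ n = a ^ n * b ^ m * z ^ (m * n) := by
  have hzp : ∀ (k : ℕ) (q : Q), z ^ k * q = q * z ^ k := fun k q =>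
    ((Commute.pow_left (hz q : Commute z q)) k).eq
  have h1 : ∀ m : ℕ, b ^ m * a = a * b ^ m * z ^ m := by
    intro m
    induction m with
    | zero => simp
    | succ m ih =>
      rw [pow_succ, mul_assoc, h, ← mul_assoc, ← mul_assoc, ih]
      rw [mul_assoc (a * b ^ m), hzp, ← mul_assoc, mul_assoc _ (z ^ m), ← pow_succ, mul_assoc a]
  induction n with
  | zero => simp
  | succ n ih =>
    rw [pow_succ, ← mul_assoc, ih, mul_assoc _ (z ^ (m * n)), hzp, ← mul_assoc, mul_assoc (a ^ n),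
      h1, ← mul_assoc, ← mul_assoc, mul_assoc _ (z ^ m), ← pow_add, Nat.mul_succ, add_comm m]

/-- The product `a₁^x₀ a₂^x₁ a₃^x₂`. -/
def aP (x y w : ℕ) : Q := F.a1 ^ x * F.a2 ^ y * F.a3 ^ w

/-- The product `b₁^x₀ b₂^x₁ b₃^x₂`. -/
def bP (x y w : ℕ) : Q := F.b1 ^ x * F.b2 ^ y * F.b3 ^ w

theorem aP_add (x y w x' y' w' : ℕ) :
    aP F x y w * aP F x' y' w' = aP F (x + x') (y + y') (w + w') := by
  have e1 := ((Commute.pow_pow (F.a12 : Commute F.a1 F.a2)) x' y).eq
  have e2 := ((Commute.pow_pow (F.a13 : Commute F.a1 F.a3)) x' w).eq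
  have e3 := ((Commute.pow_pow (F.a23 : Commute F.a2 F.a3)) y' w).eq
  simp only [aP, pow_add, mul_assoc]
  rw [← mul_assoc (F.a3 ^ w), ← e2, mul_assoc, ← mul_assoc (F.a2 ^ y), ← e1, mul_assoc,
    ← mul_assoc (F.a3 ^ w), ← e3, mul_assoc]

theorem bP_add (x y w x' y' w' : ℕ) :
    bP F x y w * bP F x' y' w' = bP F (x + x') (y + y') (w + w') := by
  have e1 := ((Commute.pow_pow (F.b12 : Commute F.b1 F.b2)) x' y).eq
  have e2 := ((Commute.pow_pow (F.b13 : Commute F.b1 F.b3)) x' w).eq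
  have e3 := ((Commute.pow_pow (F.b23 : Commute F.b2 F.b3)) y' w).eq
  simp only [bP, pow_add, mul_assoc]
  rw [← mul_assoc (F.b3 ^ w), ← e2, mul_assoc, ← mul_assoc (F.b2 ^ y), ← e1, mul_assoc,
    ← mul_assoc (F.b3 ^ w), ← e3, mul_assoc]

theorem zpow_comm (k : ℕ) (q : Q) : F.z ^ k * q = q * F.z ^ k :=
  ((Commute.pow_left (F.hz q : Commute F.z q)) k).eq

theorem bP_aP (x y w x' y' w' : ℕ) :
    bP F x y w * aP F x' y' w' = aP F x' y' w' * bP F x y w * F.z ^ (x * x' + y * y' + w * w') := by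
  have h1 : F.b1 ^ x * aP F x' y' w' = aP F x' y' w' * F.b1 ^ x * F.z ^ (x * x') := by
    have c2 := ((Commute.pow_pow (F.p12 : Commute F.b1 F.a2)) x y').eq
    have c3 := ((Commute.pow_pow (F.p13 : Commute F.b1 F.a3)) x w').eq
    simp only [aP, ← mul_assoc]
    rw [pow_swap F.hz F.p11, mul_assoc _ (F.z ^ _), zpow_comm, ← mul_assoc, mul_assoc _ (F.b1 ^ x), c2,
      ← mul_assoc, mul_assoc _ (F.z ^ _), zpow_comm, ← mul_assoc, mul_assoc _ (F.b1 ^ x), c3, ← mul_assoc]
  have h2 : F.b2 ^ y * aP F x' y' w' = aP F x' y' w' * F.b2 ^ y * F.z ^ (y * y') := by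
    have c1 := ((Commute.pow_pow (F.p21 : Commute F.b2 F.a1)) y x').eq
    have c3 := ((Commute.pow_pow (F.p23 : Commute F.b2 F.a3)) y w').eq
    simp only [aP, ← mul_assoc]
    rw [c1, mul_assoc _ (F.b2 ^ y), pow_swap F.hz F.p22, ← mul_assoc, ← mul_assoc, mul_assoc _ (F.z ^ _),
      zpow_comm, ← mul_assoc, mul_assoc _ (F.b2 ^ y), c3, ← mul_assoc]
  have h3 : F.b3 ^ w * aP F x' y' w' = aP F x' y' w' * F.b3 ^ w * F.z ^ (w * w') := by
    have c1 := ((Commute.pow_pow (F.p31 : Commute F.b3 F.a1)) w x').eq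
    have c2 := ((Commute.pow_pow (F.p32 : Commute F.b3 F.a2)) w y').eq
    simp only [aP, ← mul_assoc]
    rw [c1, mul_assoc _ (F.b3 ^ w), c2, ← mul_assoc, mul_assoc _ (F.b3 ^ w), pow_swap F.hz F.p33,
      ← mul_assoc, ← mul_assoc]
  generalize aP F x' y' w' = A at h1 h2 h3
  simp only [bP]
  rw [mul_assoc _ (F.b3 ^ w), h3, ← mul_assoc, ← mul_assoc, mul_assoc _ (F.b2 ^ y), h2, ← mul_assoc,
    ← mul_assoc, h1, mul_assoc _ (F.z ^ (x * x')), zpow_comm, ← mul_assoc, mul_assoc _ (F.z ^ (x * x')),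
    ← pow_add, mul_assoc _ (F.z ^ _), zpow_comm, ← mul_assoc, mul_assoc _ (F.z ^ _), ← pow_add]
  simp only [mul_assoc]

/-- Evaluation of a code. -/
def ev (u : ℕ) : Q :=
  aP F (bit 0 u) (bit 1 u) (bit 2 u) * bP F (bit 3 u) (bit 4 u) (bit 5 u) * F.z ^ bit 6 u

theorem aP_mod (x y w : ℕ) : aP F (x % 2) (y % 2) (w % 2) = aP F x y w := by
  simp only [aP, ← pow_eq_pow_mod _ F.s1, ← pow_eq_pow_mod _ F.s2, ← pow_eq_pow_mod _ F.s3]

theorem bP_mod (x y w : ℕ) : bP F (x % 2) (y % 2) (w % 2) = bP F x y w := by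
  simp only [bP, ← pow_eq_pow_mod _ F.t1, ← pow_eq_pow_mod _ F.t2, ← pow_eq_pow_mod _ F.t3]

theorem ev_mulF (u v : ℕ) : ev F (mulF u v) = ev F u * ev F v := by
  obtain ⟨e0, e1, e2, e3, e4, e5, e6⟩ := bit_pack (bit 0 u + bit 0 v) (bit 1 u + bit 1 v)
    (bit 2 u + bit 2 v) (bit 3 u + bit 3 v) (bit 4 u + bit 4 v) (bit 5 u + bit 5 v)
    (bit 6 u + bit 6 v + bit 3 u * bit 0 v + bit 4 u * bit 1 v + bit 5 u * bit 2 v)
  show ev F (pack _ _ _ _ _ _ _) = _
  conv_lhs => rw [ev, e0, e1, e2, e3, e4, e5, e6, aP_mod, bP_mod, ← pow_eq_pow_mod _ F.hz2]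
  simp only [ev]
  rw [← aP_add, ← bP_add]
  generalize hA : aP F (bit 0 u) (bit 1 u) (bit 2 u) = A
  generalize hB : bP F (bit 3 u) (bit 4 u) (bit 5 u) = B
  generalize hC : aP F (bit 0 v) (bit 1 v) (bit 2 v) = C
  generalize hD : bP F (bit 3 v) (bit 4 v) (bit 5 v) = D
  have key := bP_aP F (bit 3 u) (bit 4 u) (bit 5 u) (bit 0 v) (bit 1 v) (bit 2 v)
  rw [hB, hC] at key
  set z6 := F.z ^ bit 6 u
  set z6' := F.z ^ bit 6 v
  set σ := bit 3 u * bit 0 v + bit 4 u * bit 1 v + bit 5 u * bit 2 v with hσ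
  rw [show bit 6 u + bit 6 v + bit 3 u * bit 0 v + bit 4 u * bit 1 v + bit 5 u * bit 2 v
    = σ + (bit 6 u + bit 6 v) by omega]
  clear_value σ
  rw [pow_add, pow_add]
  calc A * C * (B * D) * (F.z ^ σ * (z6 * z6'))
      = A * (C * B) * (D * F.z ^ σ) * (z6 * z6') := by simp only [mul_assoc]
    _ = A * (C * B * F.z ^ σ) * D * (z6 * z6') := by rw [← zpow_comm F σ D]; simp only [mul_assoc]
    _ = A * (B * C) * D * (z6 * z6') := by rw [← key]
    _ = A * B * (z6 * (C * D)) * z6' := by rw [zpow_comm F (bit 6 u) (C * D)]; simp only [mul_assoc, z6]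
    _ = _ := by simp only [mul_assoc]

theorem ev_zero : ev F 0 = 1 := by simp [ev, aP, bP, bit]

theorem ev_sixtyfour : ev F 64 = F.z := by simp [ev, aP, bP, bit]

theorem ev_gens : ev F 1 = F.a1 ∧ ev F 2 = F.a2 ∧ ev F 4 = F.a3 ∧ ev F 8 = F.b1 ∧ ev F 16 = F.b2 ∧
    ev F 32 = F.b3 := by
  simp [ev, aP, bP, bit]

/-- The commutation pairing of two codes. -/
def bil (w u : ℕ) : ℕ :=
  bit 3 w * bit 0 u + bit 4 w * bit 1 u + bit 5 w * bit 2 u + bit 0 w * bit 3 u + bit 1 w * bit 4 u +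
    bit 2 w * bit 5 u

theorem bit_mod (i u : ℕ) (hi : i < 6) : bit i (u % 64) = bit i u := by
  simp only [bit]; interval_cases i <;> omega

theorem ev_add_sixtyfour (u k : ℕ) : ev F (u % 64 + 64 * (k % 2)) = ev F (u % 64) * F.z ^ k := by
  have h6 : bit 6 (u % 64) = 0 := by simp only [bit]; omega
  have h6' : bit 6 (u % 64 + 64 * (k % 2)) = k % 2 := by simp only [bit]; omega
  have hb : ∀ i < 6, bit i (u % 64 + 64 * (k % 2)) = bit i (u % 64) := by
    intro i hi; simp only [bit]; interval_cases i <;> omega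
  simp only [ev, hb 0 (by omega), hb 1 (by omega), hb 2 (by omega), hb 3 (by omega), hb 4 (by omega),
    hb 5 (by omega), h6, h6', pow_zero, mul_one, ← pow_eq_pow_mod _ F.hz2]

theorem ev_split (u : ℕ) : ev F u = ev F (u % 64) * F.z ^ bit 6 u := by
  have h6 : bit 6 (u % 64) = 0 := by simp only [bit]; omega
  simp [ev, h6, bit_mod]

theorem ev_cI (w u : ℕ) : ev F (cI w u) = ev F u * F.z ^ bil w u := by
  rw [cI, ev_add_sixtyfour, ev_split F u, mul_assoc, ← pow_add]
  simp only [bil]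
  congr 2
  ring

theorem ev_swap (w u : ℕ) (hw : w < 128) (hu : u < 128) :
    ev F w * ev F u = ev F u * ev F w * F.z ^ bil w u := by
  rw [← ev_mulF, cI_spec w hw u hu, ev_mulF, ev_cI, mul_assoc, zpow_comm, mul_assoc]

theorem ev_conj (w u : ℕ) (hw : w < 128) (hu : u < 128) :
    ev F (cI w u) = ev F w * ev F u * (ev F w)⁻¹ := by
  rw [← ev_mulF, cI_spec w hw u hu, ev_mulF, mul_inv_cancel_right]

theorem z_pow_eq {k : ℕ} (h : F.z ^ k = 1) : k % 2 = 0 := by
  rw [pow_eq_pow_mod _ F.hz2] at h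
  rcases Nat.mod_two_eq_zero_or_one k with h2 | h2
  · exact h2
  · rw [h2, pow_one] at h; exact absurd h F.hz1

/-- The elements commuting with the six generators. -/
def cen : Subgroup Q := Subgroup.centralizer {F.a1, F.a2, F.a3, F.b1, F.b2, F.b3}

theorem cen_comm {c : Q} (hc : c ∈ cen F) (u : ℕ) : c * ev F u = ev F u * c := by
  rw [cen, Subgroup.mem_centralizer_iff] at hc
  have g : ∀ x ∈ ({F.a1, F.a2, F.a3, F.b1, F.b2, F.b3} : Set Q), ∀ n : ℕ, Commute c (x ^ n) :=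
    fun x hx n => (Commute.pow_right (hc x hx).symm n)
  simp only [ev, aP, bP]
  exact (((((g _ (by simp) _).mul_right (g _ (by simp) _)).mul_right (g _ (by simp) _)).mul_right
    (((g _ (by simp) _).mul_right (g _ (by simp) _)).mul_right (g _ (by simp) _))).mul_right
    (zpow_comm F _ c).symm).eq

theorem mem_cen_of_gens {c : Q} (h : ∀ i < 6, c * ev F (2 ^ i) = ev F (2 ^ i) * c) : c ∈ cen F := by
  obtain ⟨g1, g2, g3, g4, g5, g6⟩ := ev_gens F
  rw [cen, Subgroup.mem_centralizer_iff]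
  intro x hx
  rcases hx with rfl | rfl | rfl | rfl | rfl | rfl
  · have := h 0 (by omega); norm_num [g1] at this; exact this.symm
  · have := h 1 (by omega); norm_num [g2] at this; exact this.symm
  · have := h 2 (by omega); norm_num [g3] at this; exact this.symm
  · have := h 3 (by omega); norm_num [g4] at this; exact this.symm
  · have := h 4 (by omega); norm_num [g5] at this; exact this.symm
  · have := h 5 (by omega); norm_num [g6] at this; exact this.symm

theorem bil_gens (u : ℕ) :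
    bil u (2 ^ 0) = bit 3 u ∧ bil u (2 ^ 1) = bit 4 u ∧ bil u (2 ^ 2) = bit 5 u ∧
      bil u (2 ^ 3) = bit 0 u ∧ bil u (2 ^ 4) = bit 1 u ∧ bil u (2 ^ 5) = bit 2 u := by
  simp [bil, bit]

theorem mod_sixtyfour_eq (u : ℕ) :
    u % 64 = bit 0 u + 2 * bit 1 u + 4 * bit 2 u + 8 * bit 3 u + 16 * bit 4 u + 32 * bit 5 u := by
  simp only [bit]; omega

theorem eq_of_conj_eq {u v : ℕ} (hu : u < 128) (hv : v < 128) (c : Q) (hc : c ∈ cen F)
    (h : ev F u = ev F v * c) : u % 64 = v % 64 := by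
  have key : ∀ g, g < 128 → (bil u g + bil v g) % 2 = 0 := by
    intro g hg
    have h1 := ev_swap F u g hu hg
    rw [h, mul_assoc (ev F v), cen_comm F hc, ← mul_assoc, ev_swap F v g hv hg] at h1
    have h2 : F.z ^ bil v g = F.z ^ bil u g := by
      rw [mul_assoc (ev F g * ev F v), zpow_comm, ← mul_assoc, ← mul_assoc, mul_assoc _ c] at h1
      apply mul_left_cancel (a := ev F g * ev F v * c)
      simpa [mul_assoc] using h1
    refine z_pow_eq F ?_
    rw [pow_add, h2, ← pow_add, ← two_mul, pow_mul, F.hz2, one_pow]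
  obtain ⟨a0, a1, a2, a3, a4, a5⟩ := bil_gens u
  obtain ⟨c0, c1, c2, c3, c4, c5⟩ := bil_gens v
  have k0 := key (2 ^ 0) (by norm_num); have k1 := key (2 ^ 1) (by norm_num)
  have k2 := key (2 ^ 2) (by norm_num); have k3 := key (2 ^ 3) (by norm_num)
  have k4 := key (2 ^ 4) (by norm_num); have k5 := key (2 ^ 5) (by norm_num)
  rw [a0, c0] at k0; rw [a1, c1] at k1; rw [a2, c2] at k2
  rw [a3, c3] at k3; rw [a4, c4] at k4; rw [a5, c5] at k5
  have hb : ∀ i w : ℕ, bit i w < 2 := fun i w => Nat.mod_lt _ (by norm_num)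
  have l0 := hb 0 u; have l1 := hb 1 u; have l2 := hb 2 u; have l3 := hb 3 u; have l4 := hb 4 u
  have l5 := hb 5 u
  have m0 := hb 0 v; have m1 := hb 1 v; have m2 := hb 2 v; have m3 := hb 3 v; have m4 := hb 4 v
  have m5 := hb 5 v
  have q3 : bit 3 u = bit 3 v := by omega
  have q4 : bit 4 u = bit 4 v := by omega
  have q5 : bit 5 u = bit 5 v := by omega
  have q0 : bit 0 u = bit 0 v := by omega
  have q1 : bit 1 u = bit 1 v := by omega
  have q2 : bit 2 u = bit 2 v := by omega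
  rw [mod_sixtyfour_eq u, mod_sixtyfour_eq v, q0, q1, q2, q3, q4, q5]

theorem ev_injective {u v : ℕ} (hu : u < 128) (hv : v < 128) (h : ev F u = ev F v) : u = v := by
  have h1 := eq_of_conj_eq F hu hv 1 (one_mem _) (by rw [mul_one]; exact h)
  rw [ev_split F u, ev_split F v, h1, mul_left_cancel_iff] at h
  have h2 : bit 6 u % 2 = bit 6 v % 2 := by
    have := z_pow_eq F (k := bit 6 u + bit 6 v) (by rw [pow_add, h, ← pow_add, ← two_mul, pow_mul, F.hz2, one_pow])
    omega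
  have e1 : bit 6 u = bit 6 v := by
    have l6 : bit 6 u < 2 := Nat.mod_lt _ (by norm_num)
    have m6 : bit 6 v < 2 := Nat.mod_lt _ (by norm_num)
    omega
  simp only [bit] at e1
  omega

theorem exists_decomp (q : Q) : ∃ u < 128, ∃ c ∈ cen F, q = ev F u * c := by
  have he : ∀ g : Q, ∃ e < 2, q * g = g * q * F.z ^ e := by
    intro g
    rcases F.hbin q g with h | h
    · exact ⟨0, by omega, by rw [pow_zero, mul_one]; exact h⟩
    · exact ⟨1, by omega, by rw [pow_one]; exact h⟩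
  choose e he2 he using he
  let g := fun i : ℕ => ev F (2 ^ i)
  set u := pack (e (g 3)) (e (g 4)) (e (g 5)) (e (g 0)) (e (g 1)) (e (g 2)) 0 with hu
  have hu128 : u < 128 := by rw [hu]; simp only [pack]; omega
  obtain ⟨b0, b1, b2, b3, b4, b5, -⟩ := bit_pack (e (g 3)) (e (g 4)) (e (g 5)) (e (g 0)) (e (g 1)) (e (g 2)) 0
  rw [← hu] at b0 b1 b2 b3 b4 b5
  obtain ⟨a0, a1, a2, a3, a4, a5⟩ := bil_gens u
  refine ⟨u, hu128, (ev F u)⁻¹ * q, mem_cen_of_gens F fun i hi => ?_, by group⟩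
  have hbil : F.z ^ bil u (2 ^ i) = F.z ^ e (g i) := by
    interval_cases i
    · rw [a0, b3, Nat.mod_eq_of_lt (he2 _)]
    · rw [a1, b4, Nat.mod_eq_of_lt (he2 _)]
    · rw [a2, b5, Nat.mod_eq_of_lt (he2 _)]
    · rw [a3, b0, Nat.mod_eq_of_lt (he2 _)]
    · rw [a4, b1, Nat.mod_eq_of_lt (he2 _)]
    · rw [a5, b2, Nat.mod_eq_of_lt (he2 _)]
  have h1 := ev_swap F u (2 ^ i) hu128 (by interval_cases i <;> norm_num)
  have h2 : q * g i = g i * q * F.z ^ e (g i) := he (g i)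
  rw [hbil] at h1
  apply mul_left_cancel (a := ev F u)
  rw [← mul_assoc, ← mul_assoc, mul_inv_cancel, one_mul, h2, ← mul_assoc, h1,
    mul_assoc _ (F.z ^ _), zpow_comm]
  simp [mul_assoc, g]

/-- The data of a lifting: a code permutation respecting `mulF`. -/
structure Lift where
  f : ℕ → ℕ
  lt : ∀ u, f u < 128
  hom : ∀ u < 128, ∀ v < 128, f (mulF u v) = mulF (f u) (f v)
  f0 : f 0 = 0
  f64 : f 64 = 64

variable (σ : Lift)

/-- The extension of a lifting to the whole group. -/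
noncomputable def extFun (q : Q) : Q :=
  ev F (σ.f (exists_decomp F q).choose) * ((ev F (exists_decomp F q).choose)⁻¹ * q)

theorem extFun_eq {u : ℕ} (hu : u < 128) {c : Q} (hc : c ∈ cen F) :
    extFun F σ (ev F u * c) = ev F (σ.f u) * c := by
  set q := ev F u * c with hq
  obtain ⟨hv, c', hc', hq'⟩ := (exists_decomp F q).choose_spec
  set v := (exists_decomp F q).choose with hvdef
  have hvu : v % 64 = u % 64 := by
    refine eq_of_conj_eq F hv hu (c * c'⁻¹) (mul_mem hc (inv_mem hc')) ?_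
    rw [← mul_assoc, ← hq, hq', mul_inv_cancel_right]
  set k := bit 6 v + bit 6 u with hk
  have hrel : ev F v = ev F u * F.z ^ k := by
    rw [ev_split F v, ev_split F u, hvu, mul_assoc, ← pow_add, hk, add_comm (bit 6 v), ← add_assoc,
      pow_add _ (bit 6 u + bit 6 u), ← two_mul, pow_mul, F.hz2, one_pow, one_mul]
  have hm : mulF u (64 * (k % 2)) = v := by
    apply ev_injective F (mulF_lt _ _) hv
    have := ev_add_sixtyfour F 0 k
    rw [Nat.zero_mod, zero_add, ev_zero, one_mul] at this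
    rw [ev_mulF, this, hrel]
  have hf : ev F (σ.f v) = ev F (σ.f u) * F.z ^ k := by
    rw [← hm, σ.hom u hu _ (by omega), ev_mulF]
    congr 1
    rw [pow_eq_pow_mod _ F.hz2]
    rcases Nat.mod_two_eq_zero_or_one k with h | h <;>
      simp [h, σ.f0, σ.f64, ev_zero, ev_sixtyfour]
  show ev F (σ.f v) * ((ev F v)⁻¹ * q) = _
  rw [hf, hrel, hq]
  group

theorem extFun_mul (q r : Q) : extFun F σ (q * r) = extFun F σ q * extFun F σ r := by
  obtain ⟨u, hu, c, hc, rfl⟩ := exists_decomp F q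
  obtain ⟨v, hv, d, hd, rfl⟩ := exists_decomp F r
  rw [show ev F u * c * (ev F v * d) = ev F (mulF u v) * (c * d) by
    rw [ev_mulF, mul_assoc (ev F u), ← mul_assoc c, cen_comm F hc]; simp [mul_assoc]]
  rw [extFun_eq F σ (mulF_lt _ _) (mul_mem hc hd), extFun_eq F σ hu hc, extFun_eq F σ hv hd,
    σ.hom u hu v hv, ev_mulF, mul_assoc (ev F (σ.f u)) c, ← mul_assoc c, cen_comm F hc]
  simp [mul_assoc]

/-- The extension as an endomorphism. -/
noncomputable def extHom : Q →* Q := MonoidHom.mk' (extFun F σ) (extFun_mul F σ)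

theorem extHom_apply {u : ℕ} (hu : u < 128) {c : Q} (hc : c ∈ cen F) :
    extHom F σ (ev F u * c) = ev F (σ.f u) * c := extFun_eq F σ hu hc

/-- `σ` as a lifting. -/
def sLift : Lift := ⟨sF, sF_lt, sF_mulF, sF_center.1, sF_center.2⟩

/-- `τ` as a lifting. -/
def tLift : Lift := ⟨tF, tF_lt, tF_mulF, tF_center.1, tF_center.2⟩

theorem conj_decomp {u w : ℕ} (hu : u < 128) (hw : w < 128) {c : Q} (hc : c ∈ cen F) :
    ev F (cI w u) * c = ev F w * (ev F u * c) * (ev F w)⁻¹ := by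
  have h : c * (ev F w)⁻¹ = (ev F w)⁻¹ * c := by
    have := cen_comm F hc w
    calc c * (ev F w)⁻¹ = (ev F w)⁻¹ * (ev F w * c) * (ev F w)⁻¹ := by group
      _ = (ev F w)⁻¹ * c := by rw [← this]; group
  rw [ev_conj F w u hw hu, mul_assoc (ev F w) (ev F u * c), mul_assoc (ev F u) c, h]
  group

theorem sq_apply (σ : Lift) (w : ℕ) (hw : w < 128) (h : ∀ u < 128, σ.f (σ.f u) = cI w u) (q : Q) :
    extHom F σ (extHom F σ q) = MulAut.conj (ev F w) q := by
  obtain ⟨u, hu, c, hc, rfl⟩ := exists_decomp F q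
  rw [extHom_apply F σ hu hc, extHom_apply F σ (σ.lt u) hc, h u hu, conj_decomp F hu hw hc]
  rfl

/-- An automorphism whose square is inner. -/
noncomputable def extAut (σ : Lift) (w : ℕ) (hw : w < 128) (h : ∀ u < 128, σ.f (σ.f u) = cI w u) :
    MulAut Q :=
  MulEquiv.ofBijective (extHom F σ) ⟨fun a b hab => by
      have := congrArg (extHom F σ) hab
      rw [sq_apply F σ w hw h, sq_apply F σ w hw h] at this
      exact (MulAut.conj (ev F w)).injective this,
    fun q => ⟨extHom F σ ((MulAut.conj (ev F w)).symm q), by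
      rw [sq_apply F σ w hw h, MulEquiv.apply_symm_apply]⟩⟩

theorem extAut_apply (σ : Lift) (w : ℕ) (hw : w < 128) (h : ∀ u < 128, σ.f (σ.f u) = cI w u) (q : Q) :
    extAut F σ w hw h q = extHom F σ q := rfl

theorem sLift_sq : ∀ u < 128, sLift.f (sLift.f u) = cI 2 u := sF_sq

theorem tLift_sq : ∀ u < 128, tLift.f (tLift.f u) = cI 0 u := tF_sq

include F in
theorem not_isComplement' (L : Subgroup (MulAut Q)) :
    ¬ (MulAut.conj : Q →* MulAut Q).range.IsComplement' L := by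
  intro hL
  set φ := extAut F sLift 2 (by norm_num) sLift_sq with hφ
  set ψ := extAut F tLift 0 (by norm_num) tLift_sq with hψ
  have decomp : ∀ α : MulAut Q, ∃ x : Q, MulAut.conj x * α ∈ L := by
    intro α
    obtain ⟨⟨⟨i, hi⟩, l⟩, hil⟩ := hL.2 α
    obtain ⟨x, rfl⟩ := hi
    refine ⟨x⁻¹, ?_⟩
    rw [← hil, map_inv, inv_mul_cancel_left]
    exact l.2
  obtain ⟨x, hx⟩ := decomp φ
  obtain ⟨y, hy⟩ := decomp ψ
  have conjn : ∀ (α : MulAut Q) (q : Q), α * MulAut.conj q = MulAut.conj (α q) * α := by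
    intro α q; ext r; simp
  have only1 : ∀ α : MulAut Q, α ∈ L → ∀ q : Q, α = MulAut.conj q → α = 1 := by
    intro α hα q hq
    exact (Subgroup.disjoint_def.mp hL.disjoint) ⟨q, hq.symm⟩ hα
  have hφ2 : φ * φ = MulAut.conj (ev F 2) := by
    ext q; exact sq_apply F sLift 2 (by norm_num) sLift_sq q
  have hψ2 : ψ * ψ = MulAut.conj (ev F 0) := by
    ext q; exact sq_apply F tLift 0 (by norm_num) tLift_sq q
  have hφψ : φ * ψ = MulAut.conj (ev F 2) * (ψ * φ) := by
    ext q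
    obtain ⟨u, hu, c, hc, rfl⟩ := exists_decomp F q
    show extHom F sLift (extHom F tLift (ev F u * c)) =
      MulAut.conj (ev F 2) (extHom F tLift (extHom F sLift (ev F u * c)))
    rw [extHom_apply F _ hu hc, extHom_apply F _ hu hc, extHom_apply F _ (tLift.lt _) hc,
      extHom_apply F _ (sLift.lt _) hc]
    show ev F (sF (tF u)) * c = MulAut.conj (ev F 2) (ev F (tF (sF u)) * c)
    rw [sF_tF u hu, conj_decomp F (tF_lt _) (by norm_num) hc]
    rfl
  set ls := MulAut.conj x * φ with hls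
  set lt := MulAut.conj y * ψ with hlt
  have hls2 : ls * ls = 1 := by
    refine only1 _ (mul_mem hx hx) (x * φ x * ev F 2) ?_
    rw [hls, mul_assoc (MulAut.conj x), ← mul_assoc φ, conjn, mul_assoc, hφ2, map_mul, map_mul]
    simp [mul_assoc]
  have hlt2 : lt * lt = 1 := by
    refine only1 _ (mul_mem hy hy) (y * ψ y * ev F 0) ?_
    rw [hlt, mul_assoc (MulAut.conj y), ← mul_assoc ψ, conjn, mul_assoc, hψ2, map_mul, map_mul]
    simp [mul_assoc]
  have hcomm : ls * lt = lt * ls := by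
    rw [← mul_inv_eq_one]
    refine only1 _ (mul_mem (mul_mem hx hy) (inv_mem (mul_mem hy hx))) (x * φ y * ev F 2 * (y * ψ x)⁻¹) ?_
    have e1 : ls * lt = MulAut.conj (x * φ y * ev F 2) * (ψ * φ) := by
      rw [hls, hlt, mul_assoc (MulAut.conj x), ← mul_assoc φ, conjn, mul_assoc, hφψ, map_mul, map_mul]
      simp [mul_assoc]
    have e2 : lt * ls = MulAut.conj (y * ψ x) * (ψ * φ) := by
      rw [hls, hlt, mul_assoc (MulAut.conj y), ← mul_assoc ψ, conjn, map_mul]
      simp [mul_assoc]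
    rw [e1, e2]
    simp [map_mul, mul_assoc]
  obtain ⟨m, hm, c, hc, rfl⟩ := exists_decomp F x
  obtain ⟨n, hn, d, hd, rfl⟩ := exists_decomp F y
  have act : ∀ (m : ℕ), m < 128 → ∀ c ∈ cen F, ∀ u < 128,
      MulAut.conj (ev F m * c) (ev F u) = ev F (cI m u) := by
    intro m hm c hc u hu
    show ev F m * c * ev F u * (ev F m * c)⁻¹ = _
    rw [ev_conj F m u hm hu, mul_assoc (ev F m), cen_comm F hc]
    group
  have hsv : ∀ u < 128, ls (ev F u) = ev F (cI m (sF u)) := by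
    intro u hu
    have h := extHom_apply F sLift hu (one_mem (cen F))
    rw [mul_one, mul_one] at h
    show MulAut.conj (ev F m * c) (φ (ev F u)) = _
    rw [hφ, extAut_apply, h]
    exact act m hm c hc _ (sF_lt u)
  have htv : ∀ u < 128, lt (ev F u) = ev F (cI n (tF u)) := by
    intro u hu
    have h := extHom_apply F tLift hu (one_mem (cen F))
    rw [mul_one, mul_one] at h
    show MulAut.conj (ev F n * d) (ψ (ev F u)) = _
    rw [hψ, extAut_apply, h]
    exact act n hn d hd _ (tF_lt u)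
  refine no_lift m n (fun u hu => ?_) (fun u hu => ?_) fun u hu => ?_
  · have h := DFunLike.congr_fun hls2 (ev F u)
    change ls (ls (ev F u)) = ev F u at h
    rw [hsv u hu, hsv _ (cI_lt _ _)] at h
    exact ev_injective F (cI_lt _ _) hu h
  · have h := DFunLike.congr_fun hlt2 (ev F u)
    change lt (lt (ev F u)) = ev F u at h
    rw [htv u hu, htv _ (cI_lt _ _)] at h
    exact ev_injective F (cI_lt _ _) hu h
  · have h := DFunLike.congr_fun hcomm (ev F u)
    change ls (lt (ev F u)) = lt (ls (ev F u)) at h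
    rw [htv u hu, hsv u hu, hsv _ (cI_lt _ _), htv _ (cI_lt _ _)] at h
    exact ev_injective F (cI_lt _ _) (cI_lt _ _) h

end Cfsg.Agent.Griess
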