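import Mathlib.Tactic.NormNum
import Mathlib.Tactic.IntervalCases
import Mathlib.Data.List.Range

/-! The finite part of Griess' non-splitting: two commuting involutions of `O⁺(6,2)` without
commuting involutory lifts to automorphisms of the extraspecial group `2^{1+6}_+`.
A natural number `u < 128` encodes `a₁^x₀ a₂^x₁ a₃^x₂ b₁^x₃ b₂^x₄ b₃^x₅ z^x₆`. -/
set_option autoImplicit false

namespace Cfsg.Agent.Griess

def bit (i u : ℕ) : ℕ := u / 2 ^ i % 2

def pack (x0 x1 x2 x3 x4 x5 x6 : ℕ) : ℕ :=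
  x0 % 2 + 2 * (x1 % 2) + 4 * (x2 % 2) + 8 * (x3 % 2) + 16 * (x4 % 2) + 32 * (x5 % 2) + 64 * (x6 % 2)

def mulF (u v : ℕ) : ℕ :=
  pack (bit 0 u + bit 0 v) (bit 1 u + bit 1 v) (bit 2 u + bit 2 v) (bit 3 u + bit 3 v)
    (bit 4 u + bit 4 v) (bit 5 u + bit 5 v)
    (bit 6 u + bit 6 v + bit 3 u * bit 0 v + bit 4 u * bit 1 v + bit 5 u * bit 2 v)

/-- Conjugation by `w`. -/
def cI (w u : ℕ) : ℕ :=
  u % 64 + 64 * ((bit 6 u + bit 3 w * bit 0 u + bit 4 w * bit 1 u + bit 5 w * bit 2 u +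
    bit 0 w * bit 3 u + bit 1 w * bit 4 u + bit 2 w * bit 5 u) % 2)

def sTab : ℕ := 103963247786607782948950679378786931039660005054758380982950520772729249316089142483221209528595062090304131357967399066391823173625852419627746809809532867584347741985738596875251588244256700034629728775782543877923694165587404813128089406751659938750763210623527452800

def tTab : ℕ := 515847885539174824375092780315191363303346663224724175689862276684432973926611236097431885738894083480598535960912198082866512438870657327435103447678307082494029895756697372385006390512138172454059951958805260217214824005303087234236311861610424267176796397940154335360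

def sF (u : ℕ) : ℕ := sTab / 128 ^ u % 128

def tF (u : ℕ) : ℕ := tTab / 128 ^ u % 128

theorem bit_pack (x0 x1 x2 x3 x4 x5 x6 : ℕ) :
    bit 0 (pack x0 x1 x2 x3 x4 x5 x6) = x0 % 2 ∧ bit 1 (pack x0 x1 x2 x3 x4 x5 x6) = x1 % 2 ∧
    bit 2 (pack x0 x1 x2 x3 x4 x5 x6) = x2 % 2 ∧ bit 3 (pack x0 x1 x2 x3 x4 x5 x6) = x3 % 2 ∧
    bit 4 (pack x0 x1 x2 x3 x4 x5 x6) = x4 % 2 ∧ bit 5 (pack x0 x1 x2 x3 x4 x5 x6) = x5 % 2 ∧
    bit 6 (pack x0 x1 x2 x3 x4 x5 x6) = x6 % 2 := by
  simp only [bit, pack]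
  omega

theorem mulF_lt (u v : ℕ) : mulF u v < 128 := by
  simp only [mulF, pack]
  omega

theorem cI_lt (w u : ℕ) : cI w u < 128 := by
  simp only [cI]
  omega

theorem sF_lt (u : ℕ) : sF u < 128 := Nat.mod_lt _ (by norm_num)

theorem tF_lt (u : ℕ) : tF u < 128 := Nat.mod_lt _ (by norm_num)

theorem cI_mod (w u : ℕ) : cI (w % 64) u = cI w u := by
  simp only [cI, bit]
  have h : ∀ i, i < 6 → w % 64 / 2 ^ i % 2 = w / 2 ^ i % 2 := by
    intro i hi
    interval_cases i <;> omega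
  rw [h 0 (by norm_num), h 1 (by norm_num), h 2 (by norm_num), h 3 (by norm_num), h 4 (by norm_num),
    h 5 (by norm_num)]

theorem cI_spec : ∀ w < 128, ∀ u < 128, mulF w u = mulF (cI w u) w := by decide +kernel

theorem mulF_sixtyfour : ∀ u < 128, u % 64 = 0 → u = 0 ∨ u = 64 := by decide +kernel

theorem sF_mulF : ∀ u < 128, ∀ v < 128, sF (mulF u v) = mulF (sF u) (sF v) := by decide +kernel

theorem tF_mulF : ∀ u < 128, ∀ v < 128, tF (mulF u v) = mulF (tF u) (tF v) := by decide +kernel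

theorem sF_sq : ∀ u < 128, sF (sF u) = cI 2 u := by decide +kernel

theorem tF_sq : ∀ u < 128, tF (tF u) = cI 0 u := by decide +kernel

theorem sF_tF : ∀ u < 128, sF (tF u) = cI 2 (tF (sF u)) := by decide +kernel

theorem sF_center : sF 0 = 0 ∧ sF 64 = 64 := by decide +kernel

theorem tF_center : tF 0 = 0 ∧ tF 64 = 64 := by decide +kernel

set_option synthInstance.maxSize 2048 in
theorem no_lift_aux : ∀ m < 64, (∀ i < 6, cI m (sF (cI m (sF (2 ^ i)))) = 2 ^ i) →
    ∀ n < 64, (∀ i < 6, cI n (tF (cI n (tF (2 ^ i)))) = 2 ^ i) →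
      ¬ ∀ i < 6, cI m (sF (cI n (tF (2 ^ i)))) = cI n (tF (cI m (sF (2 ^ i)))) := by decide +kernel

theorem no_lift (m n : ℕ) (hs : ∀ u < 128, cI m (sF (cI m (sF u))) = u)
    (ht : ∀ u < 128, cI n (tF (cI n (tF u))) = u)
    (hc : ∀ u < 128, cI m (sF (cI n (tF u))) = cI n (tF (cI m (sF u)))) : False := by
  have hp : ∀ i < 6, (2 : ℕ) ^ i < 128 := fun i hi => by interval_cases i <;> norm_num
  refine no_lift_aux (m % 64) (Nat.mod_lt _ (by norm_num)) (fun i hi => ?_)
    (n % 64) (Nat.mod_lt _ (by norm_num)) (fun i hi => ?_) fun i hi => ?_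
  · rw [cI_mod, cI_mod]; exact hs _ (hp i hi)
  · rw [cI_mod, cI_mod]; exact ht _ (hp i hi)
  · rw [cI_mod, cI_mod, cI_mod, cI_mod]; exact hc _ (hp i hi)

end Cfsg.Agent.Griess
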